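import Groth.Agent.S9380
import Groth.Agent.SymLib.Affine
import Groth.Agent.RelSpecLib.Local
import Groth.Agent.LimTop.SubAlg
import Groth.Agent.Props.SubExt

/-! Affine morphisms of finite type embed into vector bundles. -/

noncomputable section

universe u

open CategoryTheory CategoryTheory.Limits AlgebraicGeometry TopologicalSpace Opposite
open RelSpec

namespace Groth.Agent.VBEmbed65

variable {X Y : Scheme.{u}}

/-- An affine morphism is the relative spectrum of its direct image. -/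
theorem exists_toSpec (f : X ⟶ Y) [IsAffineHom f] :
    ∃ c : X ⟶ (QCAlg.directImage f).spec, c ≫ (QCAlg.directImage f).π = f ∧ IsClosedImmersion c := by
  obtain ⟨c, e, he⟩ := AffAlgLib.exists_eq_algHom (QCAlg.directImage f).π f
    (QCAlg.directImage f).gammaMap (QCAlg.π_c_gammaMap _)
  refine ⟨c, e, ?_⟩
  let A := QCAlg.directImage f
  let 𝒰 : A.spec.OpenCover := Scheme.Cover.mkOfCovers {U : Y.Opens // IsAffineOpen U} _
    (fun U => A.ι U.1 U.2) (fun x => by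
      obtain ⟨_, ⟨U, hU, rfl⟩, hxU, -⟩ := Y.isBasis_affineOpens.exists_subset_of_mem_open
        (show A.π x ∈ (⊤ : Y.Opens) from trivial) isOpen_univ
      obtain ⟨z, hz⟩ := RelSpecLib.exists_ι_apply_eq A x U hU hxU
      exact ⟨⟨U, hU⟩, z, hz⟩)
  refine (IsZariskiLocalAtTarget.iff_of_openCover (P := @IsClosedImmersion) 𝒰).2 ?_
  rintro ⟨U, hU⟩
  refine S9380.snd_of_isPullback (P := @IsClosedImmersion) (S9380.isPullback_chart f c e he.symm U hU).flip ?_
  have hV : IsAffineOpen (f ⁻¹ᵁ U) := hU.preimage f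
  have : IsAffine (f ⁻¹ᵁ U : Scheme.{u}) := hV
  have h1 : IsIso (f ⁻¹ᵁ U : Scheme.{u}).toSpecΓ := IsAffine.affine
  have h2 : IsIso (f ⁻¹ᵁ U).toSpecΓ := by rw [Scheme.Opens.toSpecΓ]; infer_instance
  exact inferInstanceAs (IsClosedImmersion (f ⁻¹ᵁ U).toSpecΓ)

/-- If the sections of `j` generate over a cover by affine opens, they generate everywhere. -/
theorem gen_eq_top {C : QCAlg Y} {E : Y.Modules} [E.IsQuasicoherent] (j : E ⟶ C.toModule)
    {κ : Type*} (U : κ → Y.Opens) (hU : ∀ k, IsAffineOpen (U k)) (hcov : ∀ y : Y, ∃ k, y ∈ U k)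
    (hgen : ∀ k, LimTop.SubAlg.gen j (U k) = ⊤) {V : Y.Opens} (hV : IsAffineOpen V) :
    LimTop.SubAlg.gen j V = ⊤ := by
  rw [← LimTop.SubAlg.locGen_eq_gen j hV, eq_top_iff]
  intro b _ y hy
  obtain ⟨k, hk⟩ := hcov y
  obtain ⟨r, hr, hyr⟩ := (hU k).exists_basicOpen_le ⟨y, hy⟩ hk
  refine ⟨Y.basicOpen r, hr, hyr, ?_⟩
  have hrU : Y.basicOpen r ≤ U k := Y.basicOpen_le r
  let := (LimTop.SubAlg.bres C hrU).toAlgebra
  have hloc : IsLocalization.Away (LimTop.SubAlg.strH C (U k) r) (C.presheaf.obj (op (Y.basicOpen r))) :=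
    C.isQC (U k) (hU k) r
  obtain ⟨n, t, ht⟩ := IsLocalization.Away.surj (LimTop.SubAlg.strH C (U k) r)
    (LimTop.SubAlg.bres C hr b)
  replace ht : LimTop.SubAlg.bres C hr b * LimTop.SubAlg.bres C hrU (LimTop.SubAlg.strH C (U k) r) ^ n =
      LimTop.SubAlg.bres C hrU t := ht
  rw [LimTop.SubAlg.bres_str] at ht
  obtain ⟨w, hw⟩ : IsUnit (QCoh.rres hrU r) := Y.toRingedSpace.isUnit_res_basicOpen r
  have h1 : LimTop.SubAlg.strH C (Y.basicOpen r) (QCoh.rres hrU r) *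
      LimTop.SubAlg.strH C (Y.basicOpen r) (w⁻¹ : Γ(Y, Y.basicOpen r)ˣ) = 1 := by
    rw [← map_mul, show QCoh.rres hrU r = (w : Γ(Y, Y.basicOpen r)) from hw.symm, Units.mul_inv, map_one]
  have h2 : LimTop.SubAlg.bres C hr b = LimTop.SubAlg.bres C hrU t *
      LimTop.SubAlg.strH C (Y.basicOpen r) (w⁻¹ : Γ(Y, Y.basicOpen r)ˣ) ^ n := by
    rw [← ht, mul_assoc, ← mul_pow, h1, one_pow, mul_one]
  rw [h2]
  refine mul_mem (LimTop.SubAlg.bres_mem_gen j hrU ?_) (pow_mem (LimTop.SubAlg.str_mem_gen j _) n)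
  rw [hgen k]
  exact Subring.mem_top t

/-- Affine morphisms of finite type over a qcqs base embed into vector bundles. -/
theorem exists_closedImmersion [CompactSpace Y] [QuasiSeparatedSpace Y] (f : X ⟶ Y) [IsAffineHom f]
    [LocallyOfFiniteType f] :
    ∃ (E : Y.Modules) (_ : Coh.IsCoh E) (A : RelSpec.QCAlg Y) (j : E ⟶ A.toModule)
      (_ : RelSpec.IsSymAlg E A j) (i : X ⟶ A.spec), IsClosedImmersion i ∧ i ≫ A.π = f := by
  classical
  let C := QCAlg.directImage f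
  obtain ⟨n, U, hU, hcov⟩ : ∃ (n : ℕ) (U : Fin n → Y.Opens), (∀ k, IsAffineOpen (U k)) ∧ ∀ x, ∃ k, x ∈ U k := by
    obtain ⟨t, ht⟩ := isCompact_univ.elim_finite_subcover (fun U : Y.affineOpens => (U.1 : Set Y))
      (fun U => U.1.2) (fun x _ => by
        obtain ⟨U, hU, hx, -⟩ := Opens.isBasis_iff_nbhd.mp Y.isBasis_affineOpens (U := ⊤) (x := x) trivial
        exact Set.mem_iUnion.mpr ⟨⟨U, hU⟩, hx⟩)
    refine ⟨t.card, fun k => (t.equivFin.symm k).1.1, fun k => (t.equivFin.symm k).1.2, fun x => ?_⟩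
    obtain ⟨U, hUt, hxU⟩ := Set.mem_iUnion₂.mp (ht (Set.mem_univ x))
    exact ⟨t.equivFin ⟨U, hUt⟩, by simpa using hxU⟩
  have hgens : ∀ k, ∃ T : Finset (C.presheaf.obj (op (U k))), ∀ R : Subring (C.presheaf.obj (op (U k))),
      (∀ r, LimTop.SubAlg.strH C (U k) r ∈ R) → (∀ y ∈ T, y ∈ R) → R = ⊤ := by
    intro k
    have hft : (f.appLE (U k) (f ⁻¹ᵁ U k) le_rfl).hom.FiniteType :=
      HasRingHomProperty.appLE @LocallyOfFiniteType f inferInstance ⟨U k, hU k⟩ ⟨_, (hU k).preimage f⟩ le_rfl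
    rw [← Scheme.Hom.app_eq_appLE] at hft
    let _ := (f.app (U k)).hom.toAlgebra
    obtain ⟨T, hT⟩ := (show Algebra.FiniteType Γ(Y, U k) Γ(X, f ⁻¹ᵁ U k) from hft).out
    refine ⟨T, fun R hR hTR => top_le_iff.mp fun z _ => ?_⟩
    have hz : (show Γ(X, f ⁻¹ᵁ U k) from z) ∈ (Algebra.adjoin Γ(Y, U k) (T : Set _)).toSubring := by
      rw [hT]; trivial
    rw [Algebra.adjoin_eq_ring_closure] at hz
    exact Subring.closure_le.mpr (Set.union_subset (Set.range_subset_iff.mpr hR) hTR) hz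
  choose T hT using hgens
  have : C.toModule.IsQuasicoherent := LimTop.SubAlg.isQuasicoherent_toModule C
  obtain ⟨E, j, -, hEq, hEft, hs⟩ := LimTop.SubAlg.exists_sub C.toModule
    (fun W hW s => Props.SubExt.exists_sub_through_section C.toModule W hW s)
    (ι := (k : Fin n) × {y // y ∈ T k}) (fun i => U i.1) (fun i => hU i.1) (fun i => i.2.1)
  have hgen : ∀ k, LimTop.SubAlg.gen j (U k) = ⊤ := fun k =>
    hT k _ (fun r => LimTop.SubAlg.str_mem_gen j r) fun y hy => by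
      obtain ⟨e, he⟩ := hs ⟨k, ⟨y, hy⟩⟩
      have h1 := LimTop.SubAlg.app_mem_gen j e
      rwa [he] at h1
  obtain ⟨ψ, hψ, -⟩ := SymLib.isSymAlg_symAlg E C j
  obtain ⟨c, hc, hcl⟩ := exists_toSpec f
  refine ⟨E, ⟨hEq, hEft⟩, SymLib.symAlg E, SymLib.jSym E, SymLib.isSymAlg_symAlg E,
    c ≫ QCAlg.specMap ψ, ?_, by rw [Category.assoc, QCAlg.specMap_π]; exact hc⟩
  have : IsClosedImmersion (QCAlg.specMap ψ) := RelSpecLib.specMap_property @IsClosedImmersion ψ fun V hV =>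
    IsClosedImmersion.spec_of_surjective _ fun b => by
      have hb : b ∈ LimTop.SubAlg.gen j V := gen_eq_top j U hU hcov hgen hV ▸ Subring.mem_top b
      refine (show LimTop.SubAlg.gen j V ≤ (ψ.hom.app (op V)).hom.range from Subring.closure_le.mpr ?_) hb
      rintro _ (⟨r, rfl⟩ | ⟨e, rfl⟩)
      · exact ⟨((SymLib.symAlg E).str.app (op V)).hom r, congr($(NatTrans.congr_app ψ.comm (op V)).hom r)⟩
      · exact ⟨(SymLib.jSym E).app V e, congr(($(hψ).app V) e)⟩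
  exact inferInstanceAs (IsClosedImmersion (c ≫ QCAlg.specMap ψ))

end Groth.Agent.VBEmbed65
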